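import Groth.Agent.W7See.Fibre
import Groth.Agent.CurveRR.Zero
import Groth.Agent.W7Slope.Hom
import Groth.Agent.ClosedRep.GeomIntegral

/-!
# Constant functions on geometrically connected smooth curves
-/

set_option autoImplicit false
set_option linter.style.haveILetI false
set_option backward.isDefEq.respectTransparency false

universe u

open CategoryTheory CategoryTheory.Limits AlgebraicGeometry TopologicalSpace
open Groth.Agent.CohFinite Groth.Agent.CurveRR

noncomputable section

namespace Groth.Agent.W7Cover

theorem h0_of_geometricallyConnected {k : Type u} [Field k] {X : Scheme.{u}}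
    [X.Over (Spec (CommRingCat.of k))] [IsProper (X ↘ Spec (CommRingCat.of k))]
    [Smooth (X ↘ Spec (CommRingCat.of k))] [GeometricallyConnected (X ↘ Spec (CommRingCat.of k))] :
    h k (Coh.structureModule X) 0 = 1 := by
  haveI := ClosedRep.GeomIntegral.geometricallyIntegral_of_smooth (X ↘ Spec (CommRingCat.of k))
  have hb := W7See.bijective_global_field (X ↘ Spec (CommRingCat.of k))
  letI := secMod k (Coh.structureModule X) ⊤
  rw [← finrank_sec (k := k)]
  let e : k →ₗ[k] Γ(Coh.structureModule X, ⊤) :=
    { toFun := fun a => (show Γ(X, ⊤) from Coh.toGlobal (X ↘ Spec (CommRingCat.of k)) a)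
      map_add' := map_add _
      map_smul' := fun a b => by
        show (show Γ(X, ⊤) from Coh.toGlobal (X ↘ Spec (CommRingCat.of k)) (a * b)) = _
        rw [map_mul]
        exact (congrArg (fun y : Γ(X, ⊤) => y * (show Γ(X, ⊤) from Coh.toGlobal (X ↘ Spec (CommRingCat.of k)) b))
          (Groth.Agent.QC.resO_self le_rfl _)).symm }
  rw [← (LinearEquiv.ofBijective e hb).finrank_eq, Module.finrank_self]

end Groth.Agent.W7Cover
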