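import Groth.Agent.W7Cover.Degree
import Groth.Agent.CurveCompl.Over
import Groth.Agent.CycDim.DegP1
import Groth.Agent.CycDim.DegZero
import Groth.Agent.S4808
import Groth.Agent.S1602

/-!
# A normal proper curve containing an affine line has genus zero
-/

set_option autoImplicit false
set_option linter.style.haveILetI false
set_option backward.isDefEq.respectTransparency false

universe u

open CategoryTheory CategoryTheory.Limits AlgebraicGeometry TopologicalSpace
open Groth.Agent.CohFinite Groth.Agent.CurveRR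

noncomputable section

namespace Groth.Agent.W7Cover

theorem secStr_eq {k : Type u} [Field k] {X : Scheme.{u}} (f : X ⟶ Spec (CommRingCat.of k)) (U : X.Opens) (c : k) :
    WeilLib.secStr f U c = Groth.Agent.QC.resO X le_top (Coh.toGlobal f c) := rfl

theorem isFinite_of_dominant {k : Type u} [Field k] {Z Y : Scheme.{u}} (p : Z ⟶ Spec (CommRingCat.of k))
    (q : Y ⟶ Spec (CommRingCat.of k)) [IsProper p] [IsSeparated q] [IsIntegral Z] (f : Z ⟶ Y) (hf : f ≫ q = p)
    (hdim : topologicalKrullDim Z ≤ 1) (hnc : (Set.range f.base).Nontrivial) : IsFinite f := by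
  refine isFinite_of_nonconstant p q f hf hdim fun W hW _ => ?_
  rw [irreducibleComponents_eq_singleton, Set.mem_singleton_iff] at hW
  rw [hW, Set.image_univ]
  exact hnc

/-- An open immersion of an open affine line into a normal curve spreads to an isomorphism. -/
theorem isIso_of_dense {k : Type u} [Field k] {V Z Y : Scheme.{u}} [IsIntegral Z] [IsIntegral Y] [IrreducibleSpace V]
    (p : Z ⟶ Spec (CommRingCat.of k)) (q : Y ⟶ Spec (CommRingCat.of k)) [IsProper p] [IsSeparated q]
    [LocallyOfFiniteType q] (hdimZ : topologicalKrullDim Z ≤ 1) (hdimY : topologicalKrullDim Y ≤ 1)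
    (hN : ∀ y : Y, IsIntegrallyClosed (Y.presheaf.stalk y))
    (j : V ⟶ Z) [IsOpenImmersion j] (a : V ⟶ Y) [IsOpenImmersion a] (b : Z ⟶ Y) (hb : b ≫ q = p) (hab : j ≫ b = a)
    (hnt : (Set.range a.base).Nontrivial) : IsIso b := by
  have hnc : (Set.range b.base).Nontrivial := hnt.mono (by
    rintro _ ⟨v, rfl⟩
    exact ⟨j v, by rw [← Scheme.Hom.comp_apply, hab]⟩)
  haveI := isFinite_of_dominant p q b hb hdimZ hnc
  have e := map_genericPoint q hdimY b hnc
  refine Groth.Agent.S4808.result hN b e ?_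
  have hη : j (genericPoint V) = genericPoint Z := genericPoint_eq_of_isOpenImmersion j
  haveI h : IsIso ((j ≫ b).stalkMap (genericPoint V)) := by
    rw [hab]; infer_instance
  rw [Scheme.Hom.stalkMap_comp] at h
  haveI : IsIso (b.stalkMap (j (genericPoint V))) := IsIso.of_isIso_comp_right _ (j.stalkMap (genericPoint V))
  rw [← hη]
  infer_instance

variable {L : Type u} [Field L] {C : Scheme.{u}} [C.Over (Spec (CommRingCat.of L))]
  [IsProper (C ↘ Spec (CommRingCat.of L))] [IsIntegral C]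

/-- A normal proper curve with an open affine line has genus zero. -/
theorem genus_zero_of_affineLine (hdim : topologicalKrullDim C = 1)
    (hN : ∀ x : C, IsIntegrallyClosed (C.presheaf.stalk x)) {V : C.Opens} (hV : IsAffineOpen V)
    (e : Γ(C, V) ≃+* Polynomial L)
    (he : ∀ c, e (WeilLib.secStr (C ↘ Spec (CommRingCat.of L)) V c) = Polynomial.C c) :
    Curv2.genus L C = 0 := by
  let P := CycDeg.P1 L
  let U := CycDeg.chartU L 0
  obtain ⟨e0, he0, -⟩ := CycDeg.exists_chart_coord L 0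
  have hU := CycDeg.isAffineOpen_chartU L 0
  let r : Γ(P, U) ≃+* Γ(C, V) := e0.trans e.symm
  let R : CommRingCat.of Γ(P, U) ≅ CommRingCat.of Γ(C, V) := r.toCommRingCatIso
  let ψ : (V : Scheme.{u}) ⟶ P := hV.isoSpec.hom ≫ Spec.map R.hom ≫ hU.fromSpec
  haveI : IsOpenImmersion ψ := inferInstance
  haveI := CycDeg.isProper_str L
  have hψ : ψ ≫ CycDeg.str L = V.ι ≫ (C ↘ Spec (CommRingCat.of L)) := by
    rw [← hV.isoSpec_hom_fromSpec_assoc]
    simp only [ψ, Category.assoc, CycDeg.fromSpec_comp, ← Spec.map_comp]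
    refine congrArg (fun φ => hV.isoSpec.hom ≫ Spec.map φ) ?_
    ext c
    show r (WeilLib.secStr (CycDeg.str L) U c) = WeilLib.secStr (C ↘ Spec (CommRingCat.of L)) V c
    rw [secStr_eq]
    exact e.injective ((e.apply_symm_apply _).trans ((he0 c).trans (he c).symm))
  haveI : Nontrivial Γ(C, V) := e.toEquiv.nontrivial
  haveI : Nonempty V :=
    ⟨hV.isoSpec.inv (Classical.arbitrary (PrimeSpectrum Γ(C, V)))⟩
  haveI : IsIntegral (V : Scheme.{u}) := isIntegral_of_isOpenImmersion V.ι
  haveI : IsNoetherian C := isNoetherian_of_proper L C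
  obtain ⟨Z, j, q, b₁, b₂, hj, hjqc, hjd, hjr, hq, hjq, hb₁, hb₂, hjb₁, hjb₂⟩ :=
    Nagata.exists_over_two (V.ι ≫ (C ↘ Spec (CommRingCat.of L))) (C ↘ Spec (CommRingCat.of L))
      (CycDeg.str L) V.ι ψ rfl hψ
  have hVdim : topologicalKrullDim (V : Scheme.{u}) ≤ 1 :=
    (V.ι.isOpenEmbedding.isInducing.topologicalKrullDim_le).trans hdim.le
  obtain ⟨hZ, -⟩ := CurveCompl.dim_le_one_of_dense_immersion (V.ι ≫ (C ↘ Spec (CommRingCat.of L))) hVdim q j hjq hjr
  haveI : IsReduced Z := IsSchemeTheoreticallyDominant.isReduced j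
  haveI : PreirreducibleSpace Z := by
    have h1 := ((IsIrreducible.closure ((IrreducibleSpace.isIrreducible_univ (V : Scheme.{u})).image j.base
      j.base.hom.continuous.continuousOn)))
    rw [Set.image_univ, hjr.closure_range] at h1
    exact ⟨h1.2⟩
  haveI : IrreducibleSpace Z := { toNonempty := ⟨j (Classical.arbitrary _)⟩ }
  haveI : IsIntegral Z := isIntegral_of_irreducibleSpace_of_isReduced Z
  have hnt : ∀ {T : Scheme.{u}} (a : (V : Scheme.{u}) ⟶ T) [IsOpenImmersion a], (Set.range a.base).Nontrivial := by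
    intro T a _
    haveI : IsDomain Γ(C, V) := e.toMulEquiv.isDomain (Polynomial L)
    let x₀ : PrimeSpectrum Γ(C, V) := ⟨⊥, Ideal.bot_prime⟩
    obtain ⟨x₁, hx₁⟩ : ∃ x₁ : PrimeSpectrum Γ(C, V), x₁ ≠ x₀ := by
      obtain ⟨m, hm, hle⟩ := Ideal.exists_le_maximal (Ideal.span {e.symm Polynomial.X}) (by
        rw [Ne, Ideal.span_singleton_eq_top]
        exact fun h => Polynomial.not_isUnit_X ((e.apply_symm_apply Polynomial.X) ▸ h.map e))
      refine ⟨⟨m, hm.isPrime⟩, fun h => ?_⟩
      have hm0 : m = (⊥ : Ideal Γ(C, V)) := congrArg PrimeSpectrum.asIdeal h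
      have h2 : e.symm Polynomial.X ∈ (⊥ : Ideal Γ(C, V)) := by
        rw [← hm0]
        exact hle (Ideal.mem_span_singleton_self _)
      exact Polynomial.X_ne_zero (e.symm.injective ((Ideal.mem_bot.1 h2).trans (map_zero e.symm).symm))
    refine ⟨_, ⟨hV.isoSpec.inv x₁, rfl⟩, _, ⟨hV.isoSpec.inv x₀, rfl⟩, fun h => hx₁ ?_⟩
    exact hV.isoSpec.inv.homeomorph.injective (a.isOpenEmbedding.injective h)
  haveI : IsIso b₁ := isIso_of_dense q (C ↘ Spec (CommRingCat.of L)) hZ hdim.le hN j V.ι b₁ hb₁ hjb₁ (hnt V.ι)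
  haveI : IsIso b₂ := isIso_of_dense q (CycDeg.str L) hZ (Groth.Agent.S10829.result L 1).le
    (isIntegrallyClosed_stalk_projSpace 1) j ψ b₂ hb₂ hjb₂ (hnt ψ)
  let φ : C ⟶ CohB1.ProjSpace 1 L := inv b₁ ≫ b₂
  haveI : IsProper (CohB1.ProjSpace 1 L ↘ Spec (CommRingCat.of L)) := ProjMor.isProper_toSpec 1 L
  have hφ : φ ≫ (CohB1.ProjSpace 1 L ↘ Spec (CommRingCat.of L)) = C ↘ Spec (CommRingCat.of L) := by
    simp only [φ, Category.assoc]
    rw [IsIso.inv_comp_eq, hb₁]
    exact hb₂
  have h := Groth.Agent.S1602.result L (CohB1.ProjSpace 1 L) C (Groth.Agent.S10829.result L 1).le φ hφ ⊤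
    (by simp) (by simp) inferInstance
  have h0 : Curv2.genus L (CohB1.ProjSpace 1 L) = 0 :=
    h_eq_zero (Groth.Agent.ProjCech.structureModule_vanish 1 L 1 one_pos)
  omega

end Groth.Agent.W7Cover
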