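import Groth.Agent.W7Cover.Quadratic
import Groth.Agent.W7Cover.AffineLine
import Groth.Agent.CurveRR.Easy
import Groth.Agent.CurveRR.BaseTwist
import Groth.Agent.NormSect.Basic
import Groth.Agent.S0223
import Groth.Agent.S7856
import Groth.Agent.SmLocalST.SmoothField

/-!
# Double covers of the line of positive genus are separable
-/

set_option autoImplicit false
set_option linter.style.haveILetI false
set_option backward.isDefEq.respectTransparency false

universe u

open CategoryTheory CategoryTheory.Limits AlgebraicGeometry TopologicalSpace Opposite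
open Groth.Agent.CohFinite Groth.Agent.CurveRR

noncomputable section

namespace Groth.Agent.W7Cover

section General

variable {X Y : Scheme.{u}}

theorem map_genericPoint_of_surjective [IsIntegral X] [IsIntegral Y] (f : X ⟶ Y) [Surjective f] :
    f (genericPoint X) = genericPoint Y := by
  have h := (genericPoint_spec X).image (f := f.base) f.base.hom.continuous
  rw [Set.image_univ, f.surjective.range_eq, closure_univ] at h
  exact h.eq (genericPoint_spec Y)

theorem app_injective [IsIntegral X] [IsIntegral Y] (f : X ⟶ Y) (e : f (genericPoint X) = genericPoint Y)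
    (U : Y.Opens) (hU : genericPoint Y ∈ U) : Function.Injective (f.app U).hom := by
  intro a b h
  have hη : f (genericPoint X) ∈ U := by rw [e]; exact hU
  refine germ_injective_of_isIntegral Y (f (genericPoint X)) hη (stalkMap_injective f e (genericPoint X) ?_)
  rw [Scheme.Hom.germ_stalkMap_apply, Scheme.Hom.germ_stalkMap_apply, h]

theorem isFractionRing_germ [IsIntegral Y] {U : Y.Opens} (hU : IsAffineOpen U) {y : Y}
    (hy : y = genericPoint Y) (hyU : y ∈ U) :
    letI := (Y.presheaf.germ U y hyU).hom.toAlgebra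
    IsFractionRing Γ(Y, U) (Y.presheaf.stalk y) := by
  subst hy
  haveI : Nonempty U := ⟨⟨_, hyU⟩⟩
  exact functionField_isFractionRing_of_isAffineOpen Y U hU

theorem residue_injective_generic [IsIntegral X] :
    Function.Injective (X.residue (genericPoint X)).hom := by
  letI : Field (X.presheaf.stalk (genericPoint X)) := inferInstanceAs (Field X.functionField)
  exact RingHom.injective _

/-- If the function field extension of a quadratic cover is not separable, squares descend. -/
theorem sq_mem [IsIntegral X] [IsIntegral Y] (f : X ⟶ Y) [IsFinite f]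
    (e : f (genericPoint X) = genericPoint Y) (U : Y.Opens) (hU : IsAffineOpen U) (hη : genericPoint Y ∈ U)
    [IsIntegrallyClosed Γ(Y, U)] (hr : f.residueDegree (genericPoint X) = 2)
    (hns : ¬ (letI := (f.residueFieldMap (genericPoint X)).hom.toAlgebra
      Algebra.IsSeparable (Y.residueField (f (genericPoint X))) (X.residueField (genericPoint X)))) :
    (2 : Γ(X, f ⁻¹ᵁ U)) = 0 ∧ ∀ b : Γ(X, f ⁻¹ᵁ U), ∃ a, (f.app U).hom a = b ^ 2 := by
  letI := (f.residueFieldMap (genericPoint X)).hom.toAlgebra
  have hy : f (genericPoint X) ∈ U := by rw [e]; exact hη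
  obtain ⟨h20, hsq⟩ := sq_mem_of_not_separable (Y.residueField (f (genericPoint X)))
    (X.residueField (genericPoint X)) hr hns
  let σ : Γ(X, f ⁻¹ᵁ U) →+* X.presheaf.stalk (genericPoint X) :=
    (X.presheaf.germ (f ⁻¹ᵁ U) (genericPoint X) hy).hom
  let τ : Γ(Y, U) →+* Y.presheaf.stalk (f (genericPoint X)) := (Y.presheaf.germ U (f (genericPoint X)) hy).hom
  have hσ : Function.Injective σ := germ_injective_of_isIntegral X _ _
  have hnat : (f.stalkMap (genericPoint X)).hom.comp τ = σ.comp (f.app U).hom :=
    congrArg CommRingCat.Hom.hom (Scheme.Hom.germ_stalkMap f U (genericPoint X) hy)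
  refine ⟨?_, fun b => ?_⟩
  · refine hσ (residue_injective_generic ?_)
    rw [map_ofNat, map_zero, map_ofNat, map_zero, ← map_ofNat (f.residueFieldMap (genericPoint X)).hom 2]
    exact (congrArg _ h20).trans (map_zero _)
  obtain ⟨w, hw⟩ := hsq ((X.residue (genericPoint X)).hom (σ b))
  obtain ⟨w, rfl⟩ := Y.residue_surjective (f (genericPoint X)) w
  have hw' : (f.stalkMap (genericPoint X)).hom w = σ b ^ 2 := by
    refine residue_injective_generic ?_
    rw [map_pow]
    refine Eq.trans ?_ hw
    exact (congr($(Scheme.residue_residueFieldMap f (genericPoint X)) w)).symm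
  letI := τ.toAlgebra
  haveI : IsFractionRing Γ(Y, U) (Y.presheaf.stalk (f (genericPoint X))) := isFractionRing_germ hU e hy
  obtain ⟨q, hq, hq0⟩ : (f.app U).hom.IsIntegralElem (b ^ 2) :=
    RingHom.IsIntegral.of_finite (f.finite_app U hU) _
  have hint : _root_.IsIntegral Γ(Y, U) w := by
    refine ⟨q, hq, stalkMap_injective f e (genericPoint X) ?_⟩
    rw [Polynomial.hom_eval₂, map_zero, hw', show algebraMap Γ(Y, U) (Y.presheaf.stalk (f (genericPoint X))) = τ from rfl,
      hnat, ← map_pow, ← Polynomial.hom_eval₂, hq0, map_zero]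
  obtain ⟨a, ha⟩ := IsIntegrallyClosed.isIntegral_iff.mp hint
  refine ⟨a, hσ ?_⟩
  rw [map_pow, ← hw', ← ha]
  exact (congrArg (fun φ : Γ(Y, U) →+* X.presheaf.stalk (genericPoint X) => φ a) hnat).symm

theorem app_secStr {k : Type u} [Field k] (f : X ⟶ Y) (q : Y ⟶ Spec (CommRingCat.of k)) (U : Y.Opens)
    (c : k) : (f.app U).hom (WeilLib.secStr q U c) = WeilLib.secStr (f ≫ q) (f ⁻¹ᵁ U) c := by
  rw [← Scheme.Hom.appLE_eq_app]
  simp only [WeilLib.secStr, CommRingCat.hom_comp, RingHom.comp_apply]
  rw [← Scheme.Hom.appLE_comp_appLE f q ⊤ U (f ⁻¹ᵁ U) le_top le_rfl]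
  rfl

theorem secStr_baseChange {k L : Type u} [Field k] [Field L] [Algebra k L]
    (q : X ⟶ Spec (CommRingCat.of L)) (W : X.Opens) (c : k) :
    WeilLib.secStr (q ≫ Spec.map (CommRingCat.ofHom (algebraMap k L))) W c =
      WeilLib.secStr q W (algebraMap k L c) := by
  let φ := CommRingCat.ofHom (algebraMap k L)
  simp only [WeilLib.secStr, CommRingCat.hom_comp, RingHom.comp_apply]
  rw [← Scheme.Hom.appLE_comp_appLE q (Spec.map φ) ⊤ ⊤ W le_top le_top, CommRingCat.comp_apply]
  refine congrArg (q.appLE ⊤ W le_top).hom ?_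
  rw [show (Spec.map φ).appLE ⊤ ⊤ le_top = (Spec.map φ).appTop from Scheme.Hom.appLE_eq_app _]
  exact (congrArg (fun ψ => ψ.hom c) (Scheme.ΓSpecIso_inv_naturality φ)).symm

end General

/-- A proper integral scheme with only constant functions is geometrically connected. -/
theorem geometricallyConnected_of_h0 {k : Type u} [Field k] {X : Scheme.{u}} [X.Over (Spec (CommRingCat.of k))]
    [IsProper (X ↘ Spec (CommRingCat.of k))] [IsIntegral X] (h0 : h k (Coh.structureModule X) 0 = 1) :
    GeometricallyConnected (X ↘ Spec (CommRingCat.of k)) := by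
  let p := X ↘ Spec (CommRingCat.of k)
  have hF : IsField Γ(X, ⊤) := isField_of_universallyClosed k p
  letI := hF.toField
  letI : Algebra k Γ(X, ⊤) := (Coh.toGlobal p).toAlgebra
  have h1 : Module.finrank k Γ(X, ⊤) = 1 := by
    letI := secMod k (Coh.structureModule X) ⊤
    rw [← h0, ← finrank_sec (k := k) (Coh.structureModule X)]
    refine LinearEquiv.finrank_eq
      { toFun := fun x => x
        invFun := fun x => x
        map_add' := fun _ _ => rfl
        map_smul' := fun c x => ?_
        left_inv := fun _ => rfl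
        right_inv := fun _ => rfl }
    show (show Γ(X, ⊤) from Coh.toGlobal p c) * (show Γ(X, ⊤) from x) = _
    exact congrArg (fun y : Γ(X, ⊤) => y * (show Γ(X, ⊤) from x)) (Groth.Agent.QC.resO_self _ _).symm
  refine (Groth.Agent.S7856.result k p).mpr ⟨inferInstance, ringKrullDim_eq_zero_of_field _, fun a => ?_⟩
  obtain ⟨c, hc⟩ := (finrank_eq_one_iff_of_nonzero' (1 : Γ(X, ⊤)) one_ne_zero).mp h1 a
  rw [Algebra.smul_def, mul_one] at hc
  refine ⟨0, c, ?_⟩
  rw [pow_zero, pow_one, ← hc]
  refine ⟨1, ?_⟩
  rw [pow_one, sub_eq_zero]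
  rfl

/-- A double cover of the line by a curve of positive genus is separable. -/
theorem separable_of_degree_two {k : Type u} [Field k] {X : Scheme.{u}} [X.Over (Spec (CommRingCat.of k))]
    [IsProper (X ↘ Spec (CommRingCat.of k))] [IsIntegral X] [Smooth (X ↘ Spec (CommRingCat.of k))]
    (hdim : topologicalKrullDim X = 1) (h0 : h k (Coh.structureModule X) 0 = 1) (hg : 1 ≤ Curv2.genus k X)
    [IsIntegral (CohB1.ProjSpace 1 k)]
    (f : X ⟶ CohB1.ProjSpace 1 k) [IsFinite f]
    (hf : f ≫ CohB1.ProjSpace.toSpec 1 k = X ↘ Spec (CommRingCat.of k))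
    (e : f (genericPoint X) = genericPoint (CohB1.ProjSpace 1 k))
    (hr : f.residueDegree (genericPoint X) = 2) :
    letI := (f.residueFieldMap (genericPoint X)).hom.toAlgebra
    Algebra.IsSeparable ((CohB1.ProjSpace 1 k).residueField (f (genericPoint X)))
      (X.residueField (genericPoint X)) := by
  by_contra hns
  let P := CohB1.ProjSpace 1 k
  let U : P.Opens := CycDeg.chartU k 0
  obtain ⟨e0, he0, -⟩ := CycDeg.exists_chart_coord k 0
  have hU : IsAffineOpen U := CycDeg.isAffineOpen_chartU k 0
  haveI : Nonempty U := by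
    haveI : Nontrivial Γ(P, U) := e0.toEquiv.nontrivial
    exact ⟨hU.isoSpec.inv (Classical.arbitrary (PrimeSpectrum Γ(P, U)))⟩
  have hηU : genericPoint P ∈ U :=
    ((genericPoint_spec P).mem_open_set_iff U.2).mpr (by simpa using Set.nonempty_coe_sort.mp ‹Nonempty U›)
  haveI : IsIntegrallyClosed Γ(P, U) := IsIntegrallyClosed.of_equiv e0.symm
  obtain ⟨h20, hsq⟩ := sq_mem f e U hU hηU hr hns
  let p := X ↘ Spec (CommRingCat.of k)
  haveI := geometricallyConnected_of_h0 (k := k) h0
  -- the curve over the algebraic closure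
  let L := AlgebraicClosure k
  let ι := CommRingCat.ofHom (algebraMap k L)
  let C := pullback p (Spec.map ι)
  letI : C.Over (Spec (CommRingCat.of L)) := ⟨pullback.snd p (Spec.map ι)⟩
  let q := C ↘ Spec (CommRingCat.of L)
  let g : C ⟶ X := pullback.fst p (Spec.map ι)
  have H : IsPullback g q p (Spec.map ι) := IsPullback.of_hasPullback p (Spec.map ι)
  haveI : IsProper q := MorphismProperty.of_isPullback (P := @IsProper) H inferInstance
  haveI : Smooth q := MorphismProperty.of_isPullback (P := @Smooth) H inferInstance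
  haveI : ConnectedSpace C := GeometricallyConnected.geometrically_connectedSpace _ _ _ H
  haveI : IsIntegral C := CurveRR.Easy.isIntegral_of_smooth (k := L)
  haveI : Surjective (Spec.map ι) := ⟨fun _ => ⟨IsLocalRing.closedPoint L, Subsingleton.elim _ _⟩⟩
  haveI : Surjective g := MorphismProperty.of_isPullback (P := @Surjective) H.flip inferInstance
  have hdimC : topologicalKrullDim C = 1 := by
    rw [Groth.Agent.S5792.result, ← hdim, Groth.Agent.S5792.result X]
    refine le_antisymm (iSup_le fun z => ?_) (iSup_le fun x => ?_)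
    · rw [LocalDimBC.localDim_of_isPullback p _ g _ H z]
      exact le_iSup (fun x : X => FlatMor.localDim X x) _
    · obtain ⟨z, rfl⟩ := g.surjective x
      rw [← LocalDimBC.localDim_of_isPullback p _ g _ H z]
      exact le_iSup (fun z : C => FlatMor.localDim C z) _
  have hgen : Curv2.genus L C = Curv2.genus k X := (Groth.Agent.S0223.result k X hdim h0 L C g H).2
  have hN : ∀ x : C, IsIntegrallyClosed (C.presheaf.stalk x) := fun x => by
    haveI := SmLocalST.isRegularLocalRing_stalk_of_smooth_field q x
    exact RegLoc.isIntegrallyClosed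
  let V : X.Opens := f ⁻¹ᵁ U
  have hV : IsAffineOpen V := hU.preimage f
  let W : C.Opens := g ⁻¹ᵁ V
  haveI : IsAffineHom g := MorphismProperty.of_isPullback (P := @IsAffineHom) H.flip inferInstance
  have hW : IsAffineOpen W := hV.preimage g
  have hgη := map_genericPoint_of_surjective g
  have hηV : genericPoint X ∈ V := by show f (genericPoint X) ∈ U; rw [e]; exact hηU
  have hηW : genericPoint C ∈ W := by show g (genericPoint C) ∈ V; rw [hgη]; exact hηV
  haveI : Nonempty W := ⟨⟨_, hηW⟩⟩
  haveI : IsIntegrallyClosed Γ(C, W) := NormSect.isIntegrallyClosed_sections W fun x _ => hN x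
  haveI : CharP Γ(C, W) 2 := CharTwo.of_one_ne_zero_of_two_eq_zero one_ne_zero
    ((map_ofNat (g.app V).hom 2).symm.trans ((congrArg _ h20).trans (map_zero _)))
  let cst : L →+* Γ(C, W) := WeilLib.secStr q W
  haveI : CharP L 2 := (cst.charP_iff_charP 2).mpr inferInstance
  let α : Γ(P, U) →+* Γ(C, W) := (g.app V).hom.comp (f.app U).hom
  have hα : Function.Injective α :=
    (app_injective g hgη V hηV).comp (app_injective f e U hηU)
  have hαc : ∀ c, α (e0.symm (Polynomial.C c)) = cst (algebraMap k L c) := fun c => by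
    rw [show e0.symm (Polynomial.C c) = WeilLib.secStr (CohB1.ProjSpace.toSpec 1 k) U c from
      e0.injective ((e0.apply_symm_apply _).trans (he0 c).symm)]
    show (g.app V).hom ((f.app U).hom _) = _
    rw [app_secStr, hf, app_secStr, H.w, secStr_baseChange]
  let ψ : Polynomial L →+* Γ(C, W) := Polynomial.eval₂RingHom cst (α (e0.symm Polynomial.X))
  have hψα : ∀ a, α a = ψ ((e0 a).map (algebraMap k L)) := fun a => by
    have h : (α.comp e0.symm.toRingHom) = ψ.comp (Polynomial.mapRingHom (algebraMap k L)) := by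
      refine Polynomial.ringHom_ext (fun c => ?_) ?_
      · show α (e0.symm (Polynomial.C c)) = ψ ((Polynomial.C c).map _)
        rw [hαc, Polynomial.map_C, Polynomial.coe_eval₂RingHom, Polynomial.eval₂_C]
      · show α (e0.symm Polynomial.X) = ψ (Polynomial.X.map _)
        rw [Polynomial.map_X, Polynomial.coe_eval₂RingHom, Polynomial.eval₂_X]
    have := DFunLike.congr_fun h (e0 a)
    exact (congrArg α (e0.symm_apply_apply a)).symm.trans this
  have hψ : Function.Injective ψ := by
    rw [injective_iff_map_eq_zero]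
    intro r hr0
    by_contra hne
    letI := cst.toAlgebra
    have halg : IsIntegral L (α (e0.symm Polynomial.X)) := IsAlgebraic.isIntegral ⟨r, hne, hr0⟩
    obtain ⟨c, hc⟩ : ∃ c, cst c = α (e0.symm Polynomial.X) := by
      have h1 := IsAlgClosed.degree_eq_one_of_irreducible L (minpoly.irreducible halg)
      exact minpoly.mem_range_of_degree_eq_one L _ h1
    have hint : IsIntegral k c := Algebra.IsIntegral.isIntegral c
    have h2 : α (e0.symm (minpoly k c)) = 0 := by
      rw [hψα, RingEquiv.apply_symm_apply]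
      show Polynomial.eval₂ cst _ _ = 0
      rw [← hc, Polynomial.eval₂_map, ← Polynomial.hom_eval₂]
      exact (congrArg cst (minpoly.aeval k c)).trans (map_zero _)
    exact minpoly.ne_zero hint (e0.symm.injective ((hα (h2.trans (map_zero α).symm)).trans (map_zero _).symm))
  have hrange : ∀ b, b ^ 2 ∈ ψ.range := by
    let S : Subring Γ(C, W) := ψ.range.comap (frobenius Γ(C, W) 2)
    intro b
    show b ∈ S
    have hpo := (isIso_pushoutSection_iff H (US := ⊤) (UX := V) (UT := ⊤) (UY := W) le_top le_top (by simp [W])).mp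
      (isIso_pushoutSection_of_isAffineOpen H le_top le_top (by simp [W]) (isAffineOpen_top _) (isAffineOpen_top _) hV)
    let g₁ := g.appLE V W le_rfl
    let g₂ := q.appLE ⊤ W le_top
    have h1 : ∀ a, g₁.hom a ∈ S := fun a => by
      obtain ⟨a', ha'⟩ := hsq a
      refine ⟨(e0 a').map (algebraMap k L), ?_⟩
      rw [← hψα]
      show (g.app V).hom ((f.app U).hom a') = (g.appLE V W le_rfl).hom a ^ 2
      rw [ha', map_pow, Scheme.Hom.appLE_eq_app]
    have h2 : ∀ t, g₂.hom t ∈ S := fun t => by
      refine ⟨Polynomial.C ((Scheme.ΓSpecIso (CommRingCat.of L)).hom t ^ 2), ?_⟩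
      show Polynomial.eval₂ cst _ _ = (q.appLE ⊤ W le_top).hom t ^ 2
      rw [Polynomial.eval₂_C, map_pow]
      refine congrArg (· ^ 2) (congrArg (q.appLE ⊤ W le_top).hom ?_)
      exact congrArg (fun φ => φ.hom t) (Scheme.ΓSpecIso (CommRingCat.of L)).hom_inv_id
    let i₁ := CommRingCat.ofHom (g₁.hom.codRestrict S h1)
    let i₂ := CommRingCat.ofHom (g₂.hom.codRestrict S h2)
    let incl : CommRingCat.of S ⟶ Γ(C, W) := CommRingCat.ofHom S.subtype
    have hmono : Mono incl := ConcreteCategory.mono_of_injective _ Subtype.val_injective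
    have hd : hpo.desc i₁ i₂ (by rw [← cancel_mono incl, Category.assoc, Category.assoc]; exact hpo.w) ≫ incl = 𝟙 _ := by
      apply hpo.hom_ext
      · rw [IsPushout.inl_desc_assoc, Category.comp_id]; rfl
      · rw [IsPushout.inr_desc_assoc, Category.comp_id]; rfl
    rw [show b = incl ((hpo.desc i₁ i₂ _).hom b) from (congr($hd b)).symm]
    exact Subtype.prop _
  obtain ⟨E, hE⟩ := exists_polynomial_equiv ψ hψ hrange
  have h := genus_zero_of_affineLine hdimC hN hW E fun c => by
    rw [show WeilLib.secStr (C ↘ Spec (CommRingCat.of L)) W c = ψ (Polynomial.C c) from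
      (Polynomial.eval₂_C cst _).symm]
    exact hE c
  omega

end Groth.Agent.W7Cover
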