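import Groth.Agent.WeilLib.Trdeg
import Groth.Agent.WeilLib.FixedPoints
import Groth.Agent.RegDual.Scheme
import Groth.Agent.RefStalk.Generic
import Groth.Agent.Rigid.DimDrop
import Groth.Agent.LocImmBlow.Apps
import Mathlib.RingTheory.Flat.TorsionFree
import Mathlib.AlgebraicGeometry.Morphisms.Flat
import Mathlib.AlgebraicGeometry.ZariskisMainTheorem

/-!
# Nonconstant morphisms of curves: finiteness and flatness
-/

set_option autoImplicit false
set_option linter.style.haveILetI false
set_option backward.isDefEq.respectTransparency false

universe u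

open CategoryTheory CategoryTheory.Limits AlgebraicGeometry TopologicalSpace

noncomputable section

namespace Groth.Agent.W7Cover

variable {k : Type u} [Field k] {X Y : Scheme.{u}}

/-- In dimension at most one every non-generic point is closed. -/
theorem isClosed_singleton (p : X ⟶ Spec (CommRingCat.of k)) [LocallyOfFiniteType p]
    (hX : topologicalKrullDim X ≤ 1) {η x : X} (h : η ⤳ x) (hne : x ≠ η) : IsClosed ({x} : Set X) := by
  refine (WeilLib.pdim_eq_zero_iff p x).1 ?_
  have h1 := WeilLib.pdim_lt p h hne
  have h2 : WeilCoh.pdim X η ≤ 1 := by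
    have h3 := (topologicalKrullDim_subspace_le X (closure ({η} : Set X))).trans hX
    letI := specializationOrder X
    rw [BMCoh.topologicalKrullDim_closure_singleton, (WeilLib.exists_pdim_eq_trd p η).2] at h3
    exact_mod_cast h3
  omega

theorem isClosed_of_ne_genericPoint [IsIntegral X] (p : X ⟶ Spec (CommRingCat.of k)) [LocallyOfFiniteType p]
    (hX : topologicalKrullDim X ≤ 1) {x : X} (hne : x ≠ genericPoint X) : IsClosed ({x} : Set X) :=
  isClosed_singleton p hX ((genericPoint_spec X).specializes trivial) hne

/-- A nonconstant morphism to an integral curve maps the generic point to the generic point. -/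
theorem map_genericPoint [IsIntegral X] [IsIntegral Y] (q : Y ⟶ Spec (CommRingCat.of k)) [LocallyOfFiniteType q]
    (hY : topologicalKrullDim Y ≤ 1) (f : X ⟶ Y) (hnc : (Set.range f.base).Nontrivial) :
    f (genericPoint X) = genericPoint Y := by
  by_contra hne
  have hc := isClosed_of_ne_genericPoint q hY hne
  obtain ⟨_, ⟨a, rfl⟩, _, ⟨b, rfl⟩, hab⟩ := hnc
  refine hab ?_
  have h1 : ∀ z : X, f.base z = f (genericPoint X) := fun z => by
    have h := ((genericPoint_spec X).specializes (Set.mem_univ z)).map f.continuous
    rw [specializes_iff_mem_closure, hc.closure_eq] at h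
    exact h
  rw [h1 a, h1 b]

theorem stalkMap_injective [IsIntegral X] [IsIntegral Y] (f : X ⟶ Y) (e : f (genericPoint X) = genericPoint Y)
    (x : X) : Function.Injective (f.stalkMap x).hom := by
  have hs : genericPoint X ⤳ x := (genericPoint_spec X).specializes trivial
  have h := Scheme.Hom.stalkSpecializes_stalkMap f (genericPoint X) x hs
  have hfld : IsField (Y.presheaf.stalk (f (genericPoint X))) := by
    rw [e]
    exact Field.toIsField Y.functionField
  have h1 : Function.Injective (f.stalkMap (genericPoint X)).hom := by
    letI := hfld.toField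
    exact RingHom.injective _
  have h2 : Function.Injective (Y.presheaf.stalkSpecializes (hs.map f.continuous)).hom := by
    have hi := RefStalk.stalkSpecializes_injective (X := Y) (f x)
    have key : ∀ (g : Y) (hg : g ⤳ f x), g = genericPoint Y →
        Function.Injective (Y.presheaf.stalkSpecializes hg).hom := by
      rintro _ hg rfl
      exact hi
    exact key _ _ e
  intro a b hab
  refine h2 (h1 ?_)
  have ha := congrArg (fun (φ : Y.presheaf.stalk (f x) ⟶ X.presheaf.stalk (genericPoint X)) => φ.hom a) h
  have hb := congrArg (fun (φ : Y.presheaf.stalk (f x) ⟶ X.presheaf.stalk (genericPoint X)) => φ.hom b) h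
  simp only [CommRingCat.hom_comp, RingHom.comp_apply] at ha hb
  exact (ha.trans (congrArg _ hab)).trans hb.symm

/-- The stalks of a normal curve are Dedekind domains. -/
theorem isDedekindDomain_stalk [IsLocallyNoetherian Y] (hY : topologicalKrullDim Y ≤ 1) (y : Y)
    [IsDomain (Y.presheaf.stalk y)] [IsIntegrallyClosed (Y.presheaf.stalk y)] :
    IsDedekindDomain (Y.presheaf.stalk y) := by
  have h := (RegDual.ringKrullDim_stalk_le_topologicalKrullDim y).trans hY
  haveI : Ring.KrullDimLE 1 (Y.presheaf.stalk y) := Ring.krullDimLE_iff.mpr h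
  haveI : Ring.DimensionLEOne (Y.presheaf.stalk y) := Ring.DimensionLEOne.mk fun {P} hP hPp =>
    Ring.krullDimLE_one_iff_of_noZeroDivisors.1 inferInstance P hP hPp
  exact {}

/-- A morphism from an integral curve onto a normal integral curve is flat. -/
theorem flat_of_map_genericPoint [IsIntegral X] [IsIntegral Y] [IsLocallyNoetherian Y]
    (hY : topologicalKrullDim Y ≤ 1) (hN : ∀ y : Y, IsIntegrallyClosed (Y.presheaf.stalk y)) (f : X ⟶ Y)
    (e : f (genericPoint X) = genericPoint Y) : Flat f := by
  rw [Flat.iff_flat_stalkMap]
  intro x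
  haveI := hN (f x)
  haveI := isDedekindDomain_stalk hY (f x)
  algebraize [(f.stalkMap x).hom]
  haveI : Module.IsTorsionFree (Y.presheaf.stalk (f x)) (X.presheaf.stalk x) :=
    Module.isTorsionFree_iff_smul_eq_zero.mpr fun c a h => by
      rw [Algebra.smul_def, mul_eq_zero] at h
      exact h.imp (fun h => stalkMap_injective f e x (h.trans (map_zero _).symm)) id
  exact (inferInstance : Module.Flat (Y.presheaf.stalk (f x)) (X.presheaf.stalk x))

/-- A proper morphism which is nonconstant on every one-dimensional component is finite. -/
theorem isFinite_of_nonconstant (p : X ⟶ Spec (CommRingCat.of k)) (q : Y ⟶ Spec (CommRingCat.of k)) [IsProper p]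
    [IsSeparated q] (f : X ⟶ Y) (hf : f ≫ q = p) (hdim : topologicalKrullDim X ≤ 1)
    (h : ∀ Z ∈ irreducibleComponents (X : Type u), topologicalKrullDim Z = 1 → (f.base '' Z).Nontrivial) :
    IsFinite f := by
  haveI : IsProper (f ≫ q) := hf ▸ inferInstance
  haveI : IsProper f := IsProper.of_comp (f := f) (g := q)
  haveI : IsNoetherian X := LocImmBlow.isNoetherian_of_ft p
  haveI : LocallyQuasiFinite f := by
    refine LocallyQuasiFinite.of_finite_preimage_singleton _ fun y => ?_
    by_cases hy : IsClosed ({y} : Set Y)
    · refine WeilLib.finite_of_forall_isClosed (hy.preimage f.continuous) fun w hw => ?_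
      obtain ⟨Z, hZ, hwZ⟩ : ∃ Z ∈ irreducibleComponents (X : Type u), w ∈ Z :=
        ⟨irreducibleComponent w, irreducibleComponent_mem_irreducibleComponents w, mem_irreducibleComponent⟩
      have hZc := isClosed_of_mem_irreducibleComponents Z hZ
      have hη := hZ.1.isGenericPoint_genericPoint hZc
      have hsp : hZ.1.genericPoint ⤳ w := hη.specializes hwZ
      by_contra hcl
      have hwη : w = hZ.1.genericPoint := by
        by_contra hne
        exact hcl (isClosed_singleton p hdim hsp hne)
      have hdimZ : topologicalKrullDim Z = 1 := by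
        refine le_antisymm ((topologicalKrullDim_subspace_le X Z).trans hdim) ?_
        have h0 : WeilCoh.pdim X w ≠ 0 := fun h0 => hcl ((WeilLib.pdim_eq_zero_iff p w).1 h0)
        rw [← hη.def, ← hwη]
        letI := specializationOrder X
        rw [BMCoh.topologicalKrullDim_closure_singleton, (WeilLib.exists_pdim_eq_trd p w).2]
        exact_mod_cast Nat.one_le_iff_ne_zero.2 h0
      obtain ⟨_, ⟨a, ha, rfl⟩, _, ⟨b, hb, rfl⟩, hab⟩ := h Z hZ hdimZ
      refine hab ?_
      have hconst : ∀ z ∈ Z, f.base z = y := fun z hz => by
        have h1 := (hη.specializes hz).map f.continuous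
        rw [← hwη, show f w = y from hw, specializes_iff_mem_closure, hy.closure_eq] at h1
        exact h1
      rw [hconst a ha, hconst b hb]
    · -- a non-closed point is the image of generic points only
      refine ((NoetherianSpace.finite_irreducibleComponents (α := X)).dependent_image
        (fun Z hZ => hZ.1.genericPoint)).subset fun w hw => ?_
      obtain ⟨Z, hZ, hwZ⟩ : ∃ Z ∈ irreducibleComponents (X : Type u), w ∈ Z :=
        ⟨irreducibleComponent w, irreducibleComponent_mem_irreducibleComponents w, mem_irreducibleComponent⟩
      refine ⟨Z, hZ, ?_⟩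
      have hη := hZ.1.isGenericPoint_genericPoint (isClosed_of_mem_irreducibleComponents Z hZ)
      by_contra hne
      refine hy ?_
      have := f.isClosedMap _ (isClosed_singleton p hdim (hη.specializes hwZ) (Ne.symm hne))
      rwa [Set.image_singleton, show f w = y from hw] at this
  exact IsFinite.of_isProper_of_locallyQuasiFinite f

end Groth.Agent.W7Cover
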