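import Groth.Agent.W7Cover.Basic
import Groth.Agent.CurveVA.Criterion
import Groth.Agent.DualGeneric.PushDeg
import Groth.Agent.CurveRR.Easy3
import Groth.Agent.SerrePn.Local
import Groth.Agent.RegLoc.Normal
import Groth.Agent.FlatModB.FiniteFlat
import Groth.Agent.QC.Localisation
import Mathlib.AlgebraicGeometry.Morphisms.FlatRank

/-!
# The degree of a map from a curve to the projective line
-/

set_option autoImplicit false
set_option linter.style.haveILetI false
set_option backward.isDefEq.respectTransparency false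

universe u

open CategoryTheory CategoryTheory.Limits AlgebraicGeometry TopologicalSpace
open Groth.Agent.CohFinite Groth.Agent.CurveRR

noncomputable section

namespace Groth.Agent.W7Cover

/-- The rank of a finite flat morphism is the rank of the stalk of the direct image. -/
theorem finrank_eq_stalk {X Y : Scheme.{u}} (f : X ⟶ Y) [IsFinite f] [Flat f] (y : Y) :
    f.finrank y = Module.finrank (Y.presheaf.stalk y)
      (((Scheme.Modules.pushforward f).obj (Coh.structureModule X)).presheaf.stalk y) := by
  obtain ⟨D, hD, hyD, -⟩ := exists_isAffineOpen_mem_and_subset (x := y) (U := (⊤ : Y.Opens)) trivial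
  have hP : Coh.IsQCoh ((Scheme.Modules.pushforward f).obj (Coh.structureModule X)) :=
    haveI : (Coh.structureModule X).IsQuasicoherent := Groth.Agent.QC.isQCoh_unit X
    Groth.Agent.QC.isQCoh_pushforward f
  rw [FlatModB.finrank_stalk_eq hP hD hyD]
  have hD' : IsAffineOpen (f ⁻¹ᵁ D) := hD.preimage f
  have sq : IsPullback hD'.fromSpec (Spec.map (f.app D)) f hD.fromSpec := by
    refine (IsOpenImmersion.isPullback (Spec.map (f.app D)) hD'.fromSpec hD.fromSpec f ?_ ?_).flip
    · rw [← hD.SpecMap_appLE_fromSpec f hD' le_rfl, Scheme.Hom.appLE_eq_app]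
    · rw [hD'.opensRange_fromSpec, hD.opensRange_fromSpec]
  have hfin : (f.app D).hom.Finite := f.finite_app D hD
  have hflat : (f.app D).hom.Flat := by
    rw [← Scheme.Hom.appLE_eq_app]
    exact HasRingHomProperty.appLE @Flat f inferInstance ⟨D, hD⟩ ⟨_, hD'⟩ le_rfl
  have hy : hD.fromSpec (hD.primeIdealOf ⟨y, hyD⟩) = y := hD.fromSpec_primeIdealOf ⟨y, hyD⟩
  conv_lhs => rw [← hy]
  rw [← Scheme.Hom.finrank_of_isPullback _ _ _ _ sq, Scheme.Hom.finrank_SpecMap_eq_finrank hfin hflat]
  letI := (f.app D).hom.toAlgebra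
  let l : Γ(X, f ⁻¹ᵁ D) ≃ₗ[Γ(Y, D)] Γ((Scheme.Modules.pushforward f).obj (Coh.structureModule X), D) :=
    { toFun := fun x => x
      invFun := fun x => x
      map_add' := fun _ _ => rfl
      map_smul' := fun _ _ => rfl
      left_inv := fun _ => rfl
      right_inv := fun _ => rfl }
  exact congrFun (Module.rankAtStalk_eq_of_equiv l) _

variable {k : Type u} [Field k]

theorem isIntegrallyClosed_stalk_projSpace (n : ℕ) (y : CohB1.ProjSpace n k) :
    IsIntegrallyClosed ((CohB1.ProjSpace n k).presheaf.stalk y) := by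
  haveI := SerrePn.isRegularLocalRing_stalk k n y
  exact RegLoc.isIntegrallyClosed

/-- `O(1)` has degree one on the line. -/
theorem deg_twist_one : Curv2.deg k (CohB1.ProjSpace 1 k) (Twist.twistProjSpace 1 k 1) 1 = 1 := by
  haveI := ProjMor.isProper_toSpec 1 k
  haveI : IsProper (CohB1.ProjSpace 1 k ↘ Spec (CommRingCat.of k)) := ProjMor.isProper_toSpec 1 k
  have hd : topologicalKrullDim (CohB1.ProjSpace 1 k) ≤ 1 := (Groth.Agent.S10829.result k 1).le
  have hvO := Groth.Agent.ProjCech.structureModule_vanish 1 k 1 one_pos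
  have hvT : Subsingleton (Coh.HH _ (Twist.twistProjSpace 1 k 1) 1) :=
    Groth.Agent.ProjCech.twist_vanish (R := k) 1 1 1 (by omega) (by omega)
  have hT0 : h k (Twist.twistProjSpace 1 k 1) 0 = 2 := by
    have := Groth.Agent.S4466.result k 1 one_pos 1
    rw [Finset.sum_range_succ, Finset.sum_range_one, show Module.finrank k (Coh.HH _ (Twist.twistProjSpace 1 k 1) 1) = 0
      from h_eq_zero hvT] at this
    norm_num [Ring.choose_one_right] at this
    exact_mod_cast this
  have hO0 : h k (Coh.structureModule (CohB1.ProjSpace 1 k)) 0 = 1 := by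
    obtain ⟨i⟩ := GrT.nonempty_twist_zero_iso (𝒜 := CohB1.polyGrading 1 k)
    have := Groth.Agent.S4466.result k 1 one_pos 0
    rw [Finset.sum_range_succ, Finset.sum_range_one, show Module.finrank k (Coh.HH _ (Twist.twistProjSpace 1 k 0) 1) = 0
      from (h_eq_of_iso (k := k) i 1).trans (h_eq_zero hvO)] at this
    refine (h_eq_of_iso (k := k) i 0).symm.trans ?_
    norm_num [Ring.choose_one_right] at this
    exact_mod_cast this
  rw [Curv2.deg, euler_eq hd, euler_eq hd, h_eq_zero hvT, h_eq_zero hvO, hT0, hO0]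
  norm_num

variable {X : Scheme.{u}} [X.Over (Spec (CommRingCat.of k))] [IsProper (X ↘ Spec (CommRingCat.of k))] [IsIntegral X]
  (f : X ⟶ CohB1.ProjSpace 1 k) (hdim : topologicalKrullDim X = 1)
  (hf : f ≫ CohB1.ProjSpace.toSpec 1 k = X ↘ Spec (CommRingCat.of k))

include hdim hf in
/-- Degree, finiteness and flatness of a nonconstant map to the line. -/
theorem cover_facts [IsIntegral (CohB1.ProjSpace 1 k)] (hdeg : 0 < Curv2.deg k X (CurveVA.O1 f) 1) :
    IsFinite f ∧ Flat f ∧ f (genericPoint X) = genericPoint (CohB1.ProjSpace 1 k) ∧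
      (f.residueDegree (genericPoint X) : ℤ) = Curv2.deg k X (CurveVA.O1 f) 1 ∧
      ∀ y, f.finrank y = f.residueDegree (genericPoint X) := by
  haveI := isNoetherian_of_proper k X
  haveI := ProjMor.isProper_toSpec 1 k
  haveI : IsNoetherian (CohB1.ProjSpace 1 k) := LocImmBlow.isNoetherian_of_ft (CohB1.ProjSpace.toSpec 1 k)
  haveI : IsProper (CohB1.ProjSpace 1 k ↘ Spec (CommRingCat.of k)) := ProjMor.isProper_toSpec 1 k
  have hd : topologicalKrullDim (CohB1.ProjSpace 1 k) ≤ 1 := (Groth.Agent.S10829.result k 1).le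
  haveI := CurveVA.isFinite_f f hdim hf hdeg
  have e : f (genericPoint X) = genericPoint (CohB1.ProjSpace 1 k) := by
    by_contra hne
    exact CurveVA.map_generic_ne f hdim hf hdeg
      (isClosed_of_ne_genericPoint (CohB1.ProjSpace.toSpec 1 k) hd hne) rfl
  haveI : Flat f := flat_of_map_genericPoint hd (isIntegrallyClosed_stalk_projSpace 1) f e
  have hgen : ∀ x', f x' = f (genericPoint X) → x' = genericPoint X := fun x' hx' => by
    by_contra hne
    refine CurveVA.map_generic_ne f hdim hf hdeg ?_ rfl
    rw [← hx']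
    have := f.isClosedMap _ (CurveVA.isClosed_singleton_of_ne_generic (k := k) hdim hne)
    rwa [Set.image_singleton] at this
  refine ⟨inferInstance, inferInstance, e, ?_, fun y => ?_⟩
  · have h1 := DualGeneric.deg_pullback k hdim.le hd f hf e
      (fun y hy hy' => CurveVA.map_generic_ne f hdim hf hdeg hy hy') hgen
      (isFinLocFreeOfRank_one (CohFinite.isInvertible_twist 1 k 1))
    rw [show Curv2.deg k (CohB1.ProjSpace 1 k) (Twist.twistProjSpace 1 k 1) 1 = 1 from deg_twist_one, mul_one] at h1
    exact h1.symm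
  · rw [IsLocallyConstant.apply_eq_of_preconnectedSpace f.isLocallyConstant_finrank y
      (genericPoint (CohB1.ProjSpace 1 k)), finrank_eq_stalk]
    exact DualGeneric.finrank_push_generic f f.isClosedMap e hgen

end Groth.Agent.W7Cover
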