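import Groth.Agent.W7Cover.Separable
import Groth.Agent.CurveRR.SmoothPt
import Groth.Agent.CurveRR.Easy
import Groth.Agent.CurveVA.Main
import Groth.Agent.Horrocks.Dim
import Groth.Agent.SymAlg.RL

/-!
# Double covers of the line and pencils of degree two
-/

set_option autoImplicit false
set_option linter.style.haveILetI false
set_option backward.isDefEq.respectTransparency false

universe u

open CategoryTheory CategoryTheory.Limits AlgebraicGeometry TopologicalSpace
open Groth.Agent Groth.Agent.CohFinite Groth.Agent.CurveRR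
open Groth.Agent.QC (res)
open TMul (homOf val_homOf)

noncomputable section

namespace Groth.Agent.W7Cover

attribute [local instance] secMod

variable {k : Type u} [Field k] {X : Scheme.{u}} [X.Over (Spec (CommRingCat.of k))]
  [IsProper (X ↘ Spec (CommRingCat.of k))] [IsIntegral X]

/-- On a curve of positive genus a pencil of degree two has no base point. -/
theorem exists_mem_genLocus_deg_two [Smooth (X ↘ Spec (CommRingCat.of k))]
    (hdim : topologicalKrullDim X = 1) (h0 : h k (Coh.structureModule X) 0 = 1) (hg : 1 ≤ Curv2.genus k X)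
    {L : X.Modules} (hL : PicF.IsInvertible L) (hdeg : Curv2.deg k X L 1 = 2) (hh : h k L 0 = 2)
    {x : X} (hx : IsClosed ({x} : Set X)) :
    ∃ t : Γ(L, ⊤), x ∈ CohB1.genLocus L (homOf t) := by
  haveI := isNoetherian_of_proper k X
  by_contra! hno
  have hreg := SmLocalST.isRegularLocalRing_stalk_of_smooth_field (X ↘ Spec (CommRingCat.of k)) x
  let I := Scheme.IdealSheafData.vanishingIdeal ⟨{x}, hx⟩
  have hI : PicF.IsInvertible (ClSub.idealMod I) :=
    isInvertible_pointIdeal hdim.le hx (genericPoint_ne_of_closed (k := k) hdim hx) hreg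
  have hsupp : (I.support : Set X) = {x} := by simp [I]
  have hd : topologicalKrullDim (I.support : Set X) ≤ 0 := by
    rw [hsupp]
    exact topologicalKrullDim_zero_of_discreteTopology _
  have hM : PicF.IsInvertible (CohB1.tensorMod (ClSub.idealMod I) L) := TMul.isInvertible_tensorMod hI hL
  haveI := finite_proper k X _ (isCoh_of_inv hM) 0
  have hle : h k L 0 ≤ h k (CohB1.tensorMod (ClSub.idealMod I) L) 0 := by
    letI := secMod k L ⊤
    letI := secMod k (CohB1.tensorMod (ClSub.idealMod I) L) ⊤
    haveI : Module.Finite k Γ(CohB1.tensorMod (ClSub.idealMod I) L, ⊤) :=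
      Module.Finite.equiv (secH0 (k := k) (CohB1.tensorMod (ClSub.idealMod I) L)).symm
    let φ : Γ(CohB1.tensorMod (ClSub.idealMod I) L, ⊤) →ₗ[k] Γ(L, ⊤) :=
      { toFun := (idealIncl I L).app ⊤
        map_add' := map_add _
        map_smul' := fun a s => TMul.app_smul _ _ _ }
    have := φ.finrank_range_le
    rw [LinearMap.range_eq_top.mpr fun t => mem_range_idealIncl hL ⟨{x}, hx⟩ t fun z hz => by
      rw [Set.mem_singleton_iff.mp hz]; exact hno t, finrank_top, finrank_sec, finrank_sec] at this
    exact this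
  have he := euler_ideal_tensor (k := k) hL I hd
  have hQ := h0_quotMod_pos (k := k) I (by rw [hsupp]; exact ⟨x, rfl⟩)
  obtain ⟨h1, h2⟩ := series_bound hdim.le h0 hM (by omega)
  have hdegM : Curv2.deg k X (CohB1.tensorMod (ClSub.idealMod I) L) 1 = 2 - h k (ClSub.quotMod I) 0 := by
    rw [← hdeg, Curv2.deg, Curv2.deg, he]
    push_cast
    ring
  have := h2 (by omega) (by omega)
  omega

/-- A generated invertible module with a chosen basis defines a map. -/
theorem exists_map_of_gen {L : X.Modules} (hL : PicF.IsInvertible L) {n : ℕ} (hn : h k L 0 = n + 1)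
    (hgen : ∀ x : X, IsClosed ({x} : Set X) → ∃ t : Γ(L, ⊤), x ∈ CohB1.genLocus L (homOf t)) :
    ∃ (f : X ⟶ CohB1.ProjSpace n k), f ≫ CohB1.ProjSpace.toSpec n k = X ↘ (Spec (CommRingCat.of k)) ∧
      Nonempty (CurveVA.O1 f ≅ L) := by
  haveI := isNoetherian_of_proper k X
  haveI := finite_proper k X _ (isCoh_of_inv hL) 0
  haveI : Module.Finite k Γ(L, ⊤) := Module.Finite.equiv (secH0 (k := k) L).symm
  let b : Module.Basis (Fin (n + 1)) k Γ(L, ⊤) :=
    (Module.finBasis k Γ(L, ⊤)).reindex (finCongr ((finrank_sec L).trans hn))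
  obtain ⟨f, hf, τ, -⟩ := ProjMor.exists_projSpace (X ↘ Spec (CommRingCat.of k)) hL (fun i => b i)
    (CurveVA.generatedBy_of_basis b fun x => by
      obtain ⟨z, hz, hzc⟩ := (isClosed_closure (s := ({x} : Set X))).exists_closed_singleton ⟨x, subset_closure rfl⟩
      obtain ⟨t, ht⟩ := hgen z hzc
      exact ⟨t, (specializes_iff_mem_closure.mpr hz).mem_open (CohB1.genLocus L (homOf t)).2 ht⟩)
  exact ⟨f, hf, ⟨τ⟩⟩

/-- A pencil of degree two gives a separable double cover. -/
theorem exists_double_cover [IsIntegral (CohB1.ProjSpace 1 k)] [Smooth (X ↘ Spec (CommRingCat.of k))]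
    (hdim : topologicalKrullDim X = 1) (h0 : h k (Coh.structureModule X) 0 = 1) (hg : 1 ≤ Curv2.genus k X)
    {L : X.Modules} (hL : PicF.IsInvertible L) (hdeg : Curv2.deg k X L 1 = 2) (hh : h k L 0 = 2) :
    ∃ f : X ⟶ CohB1.ProjSpace 1 k, f ≫ CohB1.ProjSpace.toSpec 1 k = X ↘ (Spec (CommRingCat.of k)) ∧
      IsFinite f ∧ Flat f ∧ f (genericPoint X) = genericPoint (CohB1.ProjSpace 1 k) ∧
      f.residueDegree (genericPoint X) = 2 ∧ (∀ y, f.finrank y = 2) ∧
      letI := (f.residueFieldMap (genericPoint X)).hom.toAlgebra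
      Algebra.IsSeparable ((CohB1.ProjSpace 1 k).residueField (f (genericPoint X)))
        (X.residueField (genericPoint X)) := by
  obtain ⟨f, hf, ⟨τ⟩⟩ := exists_map_of_gen hL (n := 1) hh fun x hx =>
    exists_mem_genLocus_deg_two hdim h0 hg hL hdeg hh hx
  have hd : Curv2.deg k X (CurveVA.O1 f) 1 = 2 := by
    rw [← hdeg, Curv2.deg, Curv2.deg, euler_eq_of_iso τ]
  obtain ⟨hfin, hflat, he, hr, hrk⟩ := cover_facts f hdim hf (by omega)
  haveI := hfin
  have hr2 : f.residueDegree (genericPoint X) = 2 := by omega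
  exact ⟨f, hf, hfin, hflat, he, hr2, fun y => (hrk y).trans hr2,
    separable_of_degree_two hdim h0 hg f hf he hr2⟩

/-- A double cover of the line gives a pencil of degree two. -/
theorem exists_pencil_of_cover (hdim : topologicalKrullDim X = 1) (h0 : h k (Coh.structureModule X) 0 = 1)
    (hg : 1 ≤ Curv2.genus k X) (f : X ⟶ CohB1.ProjSpace 1 k) [IsFinite f]
    (hf : f ≫ CohB1.ProjSpace.toSpec 1 k = X ↘ (Spec (CommRingCat.of k)))
    (hr : f.residueDegree (genericPoint X) = 2) :
    ∃ L : X.Modules, PicF.IsInvertible L ∧ Curv2.deg k X L 1 = 2 ∧ h k L 0 = 2 := by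
  haveI := Horrocks.isIntegral_projSpace (k := k) (n := 1)
  haveI := isNoetherian_of_proper k X
  haveI := ProjMor.isProper_toSpec 1 k
  haveI : IsProper (CohB1.ProjSpace 1 k ↘ Spec (CommRingCat.of k)) := ProjMor.isProper_toSpec 1 k
  have hd : topologicalKrullDim (CohB1.ProjSpace 1 k) ≤ 1 := (Groth.Agent.S10829.result k 1).le
  have hfib : ∀ y : CohB1.ProjSpace 1 k, IsClosed ({y} : Set (CohB1.ProjSpace 1 k)) →
      genericPoint X ∉ f ⁻¹' {y} := fun y hy hmem => by
    have h1 : (f ⁻¹' {y} : Set X) = Set.univ :=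
      Set.eq_univ_of_forall fun z => (genericPoint_specializes z).mem_closed (hy.preimage f.continuous) hmem
    have h2 := f.isDiscrete_preimage_singleton y
    rw [h1] at h2
    haveI : DiscreteTopology X := isDiscrete_univ_iff.mp h2
    have h3 := topologicalKrullDim_zero_of_discreteTopology X
    rw [hdim] at h3
    exact absurd h3 (by norm_num)
  have e : f (genericPoint X) = genericPoint (CohB1.ProjSpace 1 k) := by
    by_contra hne
    exact hfib _ (isClosed_of_ne_genericPoint (CohB1.ProjSpace.toSpec 1 k) hd hne) rfl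
  have hgen : ∀ x', f x' = f (genericPoint X) → x' = genericPoint X := fun x' hx' => by
    by_contra hne
    have hc := f.isClosedMap _ (CurveVA.isClosed_singleton_of_ne_generic (k := k) hdim hne)
    rw [Set.image_singleton] at hc
    exact hfib _ hc hx'.symm
  let L := CurveVA.O1 f
  have hL : PicF.IsInvertible L := CurveVA.isInvertible_O1 f
  have hdeg : Curv2.deg k X L 1 = 2 := by
    have h1 := DualGeneric.deg_pullback k hdim.le hd f hf e hfib hgen
      (isFinLocFreeOfRank_one (CohFinite.isInvertible_twist 1 k 1))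
    rw [show Curv2.deg k (CohB1.ProjSpace 1 k) (Twist.twistProjSpace 1 k 1) 1 = 1 from deg_twist_one, mul_one,
      hr] at h1
    exact h1
  have hge : 2 ≤ h k L 0 := by
    letI := secMod k L ⊤
    haveI := finite_proper k X _ (isCoh_of_inv hL) 0
    haveI : Module.Finite k Γ(L, ⊤) := Module.Finite.equiv (secH0 (k := k) L).symm
    let s : Fin 2 → Γ(L, ⊤) := fun i =>
      ProjUP.pullSec f (Twist.twistProjSpace 1 k 1) (ProjUP.coord 1 k i)
    have hs : LinearIndependent k s := by
      rw [Fintype.linearIndependent_iff]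
      intro c hc
      by_contra! hne
      obtain ⟨i, hi⟩ := hne
      have hlin : ProjMor.linForms 1 k c ≠ 0 := fun h0' => hi (by
        have := congrArg (MvPolynomial.coeff (Finsupp.single i 1)) h0'
        rw [ProjMor.linForms, Fintype.linearCombination_apply, MvPolynomial.coeff_sum,
          Finset.sum_eq_single i (fun j _ hj => by simp [MvPolynomial.coeff_X, Finsupp.single_left_inj, hj])
            (fun h' => absurd (Finset.mem_univ i) h')] at this
        simpa using this)
      have hne' : Proj.basicOpen (CohB1.polyGrading 1 k) (ProjMor.linForms 1 k c) ≠ ⊥ := fun hb =>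
        hlin (SymAlg.isNilpotent_of_basicOpen_eq_bot one_pos (ProjMor.linForms_mem 1 k c) hb).eq_zero
      have hmem : genericPoint X ∈ f ⁻¹ᵁ Proj.basicOpen (CohB1.polyGrading 1 k) (ProjMor.linForms 1 k c) := by
        show f (genericPoint X) ∈ Proj.basicOpen _ _
        rw [e]
        refine ((genericPoint_spec _).mem_open_set_iff (Opens.isOpen _)).mpr ?_
        simpa [Set.nonempty_iff_ne_empty] using hne'
      rw [← ProjMor.genLocus_pull1 (ProjMor.genDegOne_projSpace 1 k) f (ProjMor.linForms_mem 1 k c)] at hmem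
      have hz : ProjMor.pull1 f (ProjMor.linForms_mem 1 k c) = 0 := by
        rw [ProjMor.pull1_linForms, hf]
        refine Eq.trans ?_ hc
        refine Finset.sum_congr rfl fun j _ => ?_
        exact congrArg (fun a : Γ(X, ⊤) => a • s j) (Groth.Agent.QC.resO_self _ _).symm
      rw [hz] at hmem
      have he0 : homOf (0 : Γ(L, ⊤)) = (0 : Coh.structureModule X ⟶ L) :=
        TMul.hom_ext_val ((val_homOf _ _).trans (map_zero _))
      have hm' : genericPoint X ∈ CohB1.genLocus L (homOf (0 : Γ(L, ⊤))) := hmem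
      rw [he0, TMul.genLocus_zero] at hm'
      exact hm'
    have := hs.fintype_card_le_finrank
    rw [finrank_sec, Fintype.card_fin] at this
    exact this
  obtain ⟨h1, h2⟩ := series_bound hdim.le h0 hL (by omega)
  refine ⟨L, hL, hdeg, ?_⟩
  by_contra hne
  have := h2 (by omega) (by omega)
  omega

end Groth.Agent.W7Cover
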