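import Groth.Agent.W7Cover.Basic
import Groth.Agent.UnramPoint.Basic
import Mathlib.AlgebraicGeometry.Morphisms.Etale

/-!
# Separable covers are generically étale
-/

set_option autoImplicit false
set_option linter.style.haveILetI false
set_option backward.isDefEq.respectTransparency false

universe u

open CategoryTheory CategoryTheory.Limits AlgebraicGeometry TopologicalSpace

noncomputable section

namespace Groth.Agent.W7Cover

/-- A finite flat separable cover is étale on a nonempty open. -/
theorem exists_etale_open {X Y : Scheme.{u}} [IsIntegral X] [IsIntegral Y] (f : X ⟶ Y) [IsFinite f] [Flat f]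
    [LocallyOfFinitePresentation f] (e : f (genericPoint X) = genericPoint Y)
    (hr : f.residueDegree (genericPoint X) ≠ 0)
    (hsep : letI := (f.residueFieldMap (genericPoint X)).hom.toAlgebra
      Algebra.IsSeparable (Y.residueField (f (genericPoint X))) (X.residueField (genericPoint X))) :
    ∃ V : X.Opens, (V : Set X).Nonempty ∧ Etale (V.ι ≫ f) := by
  have hX : IsField (X.presheaf.stalk (genericPoint X)) := Field.toIsField X.functionField
  have hY : IsField (Y.presheaf.stalk (f (genericPoint X))) := by
    rw [e]
    exact Field.toIsField Y.functionField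
  obtain ⟨V, hV, _⟩ := UnramPoint.exists_nhd_of_stalkMap f (genericPoint X)
    ((UnramPoint.stalkMap_formallyUnramified_iff f (genericPoint X)).mpr ⟨by
      rw [IsLocalRing.isField_iff_maximalIdeal_eq.mp hY, IsLocalRing.isField_iff_maximalIdeal_eq.mp hX,
        Ideal.map_bot], by
      letI := (f.residueFieldMap (genericPoint X)).hom.toAlgebra
      exact ⟨Module.finite_of_finrank_pos (Nat.pos_of_ne_zero hr), hsep⟩⟩)
  exact ⟨V, ⟨_, hV⟩, Etale.of_formallyUnramified_of_flat _⟩

end Groth.Agent.W7Cover
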