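import Groth.Agent.DualGeneric.GenusZero

/-!
# The canonical module of a curve and its sections
-/

set_option autoImplicit false
set_option backward.isDefEq.respectTransparency false
set_option backward.isDefEq.respectTransparency.types false
set_option linter.style.haveILetI false
set_option maxHeartbeats 1000000

universe u

open CategoryTheory CategoryTheory.Limits AlgebraicGeometry TopologicalSpace Opposite

attribute [local instance] HasDerivedCategory.standard

noncomputable section

namespace Groth.Agent.DualGeneric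

variable (k : Type u) [Field k] {X : Scheme.{u}} [X.Over (Spec (CommRingCat.of k))] [IsProper (X ↘ Spec (CommRingCat.of k))] [IsIntegral X]

/-- the canonical module of a Gorenstein curve with its number of sections -/
theorem exists_omega_h0 (hdim : topologicalKrullDim X = 1)
    (hgor : ∀ x : X, LocCoh.IsGorensteinLocalRing (X.presheaf.stalk x)) :
    ∃ ω : X.Modules, PicF.IsInvertible ω ∧ Curv2.euler k X ω = - Curv2.euler k X (Coh.structureModule X) ∧
      CurveRR.h k ω 0 = CurveRR.h k (Coh.structureModule X) 1 := by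
  haveI := DCohShriek.isNoetherian_of_proper (X ↘ Spec (CommRingCat.of k))
  haveI : DCoh.HasRpush (X ↘ Spec (CommRingCat.of k)) := DerPush.hasRpush_sch _
  have hf : DCoh.RpushPreservesQCoh (X ↘ Spec (CommRingCat.of k)) := fun E hE =>
    DQPush.isQCohD_rpush (X ↘ Spec (CommRingCat.of k)) hE
  haveI : (DCoh.RpushQ (X ↘ Spec (CommRingCat.of k)) hf).IsLeftAdjoint :=
    DCohShriek.isLeftAdjoint_rpushQ (X ↘ Spec (CommRingCat.of k)) hf
  let adj : DCoh.RpushQ (X ↘ Spec (CommRingCat.of k)) hf ⊣ _ := Adjunction.ofIsLeftAdjoint _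
  let O := (DCohShriek.tildeQ k).obj (DCohShriek.unitD k)
  let a := (DCoh.RpushQ (X ↘ Spec (CommRingCat.of k)) hf).rightAdjoint
  obtain ⟨t, ht⟩ := DCohShriek.exists_isRDual k adj O (DCohShriek.tildeUnitIso k) 1 hdim.le
  let K := (a.obj O).obj
  let ω := DCoh.HD K (-(1 : ℤ))
  have hKd : Dual2.IsDualizingSch X K := DCohShriek.isDualizingSch_adjoint (X ↘ Spec (CommRingCat.of k)) adj O
    (DCohShriek.isDualizingSch_point k (DCohShriek.tildeUnitIso k))
  have hω : Coh.IsCoh ω := DCohShriek.isCoh_dualModule k adj O (DCohShriek.tildeUnitIso k) _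
  obtain ⟨eη⟩ := exists_generic_equiv (k := k) (r := 1) (by exact_mod_cast hdim) hω t (fun F hF => ht.2 F hF.1)
  suffices hinv : PicF.IsInvertible ω by
    obtain ⟨E0⟩ := SerrePn.nonempty_homEquiv k (TMul.isInvertible_structureModule (X := X))
      (TMul.leftUnitIso (Coh.structureModule X)) ω
    refine ⟨ω, hinv, euler_dualizing k hdim.le hinv ht, ?_⟩
    rw [← CurveRR.h_eq_of_iso (k := k) (TMul.commIso ω _ ≪≫ TMul.leftUnitIso ω) 0]
    exact E0.finrank_eq.symm.trans (finrank_hom_eq k ht (TMul.isQCoh_of_isInvertible TMul.isInvertible_structureModule))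
  refine RefStalk.isInvertible_of_stalk_equiv hω.1 hω.2 fun x => ?_
  obtain ⟨w, hw, hwe⟩ := exists_local_all hKd x
  haveI := hgor x
  haveI : IsNoetherianRing (X.presheaf.stalk x) := inferInstance
  obtain ⟨r, hr⟩ := SerreReg.exists_dim_nat (X.presheaf.stalk x)
  obtain ⟨m, ⟨em⟩⟩ := DualCx.exists_shift_iso (DualCx.gorenstein_normalized hr).1 hw
  obtain ⟨e1⟩ := hwe (-1)
  let eK : w ≅ (Dual.inD (X.presheaf.stalk x) (X.presheaf.stalk x))⟦(r : ℤ) + m⟧ :=
    em ≪≫ ((CategoryTheory.shiftFunctorAdd' (Dual.D (X.presheaf.stalk x)) (r : ℤ) m ((r : ℤ) + m) rfl).app _).symm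
  obtain ⟨es⟩ := DualCx.nonempty_hd_shift (Dual.inD (X.presheaf.stalk x) (X.presheaf.stalk x)) ((r : ℤ) + m) (-1)
  let e2 := e1.trans ((((DerivedCategory.homologyFunctor (ModuleCat.{u} (X.presheaf.stalk x)) (-1)).mapIso eK)).toLinearEquiv.trans es)
  by_cases hn : (r : ℤ) + m + -1 = 0
  · exact ⟨e2.trans (by
      rw [hn]
      exact ((DerivedCategory.singleFunctorCompHomologyFunctorIso (ModuleCat.{u} (X.presheaf.stalk x)) 0).app
        (ModuleCat.of (X.presheaf.stalk x) (X.presheaf.stalk x))).toLinearEquiv)⟩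
  · exfalso
    haveI := DualCx.subsingleton_hd_inD (A := X.presheaf.stalk x) (X.presheaf.stalk x) hn
    haveI : Subsingleton (ω.presheaf.stalk x) := e2.toEquiv.subsingleton
    have hxs : x ∉ CohB1.support ω := fun h => h ‹_›
    have hηs : genericPoint X ∉ CohB1.support ω := fun h =>
      hxs ((genericPoint_specializes x).mem_closed (Groth.Agent.QC.isClosed_support hω.2) h)
    haveI := CurveRR.subsingleton_stalk hηs
    haveI : Subsingleton (X.presheaf.stalk (genericPoint X)) := eη.symm.toEquiv.subsingleton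
    exact false_of_nontrivial_of_subsingleton (X.presheaf.stalk (genericPoint X))

end Groth.Agent.DualGeneric
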