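import Mathlib

/-!
# Inseparable quadratic extensions and squares in characteristic two
-/

set_option autoImplicit false

universe u v

open Polynomial

namespace Groth.Agent.W7Cover

/-- A quadratic extension which is not separable is generated by square roots in characteristic two. -/
theorem sq_mem_of_not_separable (F : Type u) (K : Type v) [Field F] [Field K] [Algebra F K]
    (h2 : Module.finrank F K = 2) (hns : ¬ Algebra.IsSeparable F K) :
    (2 : F) = 0 ∧ ∀ z : K, ∃ w : F, algebraMap F K w = z ^ 2 := by
  haveI : FiniteDimensional F K := Module.finite_of_finrank_eq_succ h2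
  have hdeg : ∀ z : K, (minpoly F z).natDegree ≤ 2 := fun z => h2 ▸ minpoly.natDegree_le z
  have hroot : ∀ z : K, aeval z (minpoly F z) = 0 := fun z => minpoly.aeval F z
  have key : ∀ z : K, (minpoly F z).natDegree = 2 →
      algebraMap F K ((minpoly F z).coeff 0) + algebraMap F K ((minpoly F z).coeff 1) * z + z ^ 2 = 0 := by
    intro z hz
    have h := hroot z
    rw [aeval_eq_sum_range, hz, Finset.sum_range_succ, Finset.sum_range_succ, Finset.sum_range_one] at h
    have hm : (minpoly F z).coeff 2 = 1 := by
      have := (minpoly.monic (Algebra.IsIntegral.isIntegral (R := F) z)).coeff_natDegree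
      rwa [hz] at this
    rw [hm, Algebra.smul_def, Algebra.smul_def, one_smul, pow_zero, mul_one, pow_one] at h
    exact h
  have h20 : (2 : F) = 0 := by
    by_contra h
    refine hns ⟨fun z => ?_⟩
    have hirr := minpoly.irreducible (Algebra.IsIntegral.isIntegral (R := F) z)
    refine (separable_iff_derivative_ne_zero hirr).mpr fun hd => ?_
    have hpos := minpoly.natDegree_pos (Algebra.IsIntegral.isIntegral (R := F) z)
    have := congrArg (fun p => p.coeff ((minpoly F z).natDegree - 1)) hd
    simp only [coeff_derivative, coeff_zero] at this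
    rw [Nat.sub_add_cancel hpos] at this
    have hne : (((minpoly F z).natDegree - 1 : ℕ) : F) + 1 ≠ 0 := by
      have := hdeg z
      interval_cases hn : (minpoly F z).natDegree
      · simp
      · norm_num; exact h
    rw [(minpoly.monic (Algebra.IsIntegral.isIntegral (R := F) z)).coeff_natDegree, one_mul] at this
    exact hne this
  refine ⟨h20, fun z => ?_⟩
  by_cases hz : z ∈ (algebraMap F K).range
  · obtain ⟨w, rfl⟩ := hz
    exact ⟨w ^ 2, map_pow _ _ _⟩
  have hz2 : (minpoly F z).natDegree = 2 := by
    refine le_antisymm (hdeg z) ?_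
    exact (minpoly.two_le_natDegree_iff (Algebra.IsIntegral.isIntegral (R := F) z)).mpr hz
  by_cases hb : (minpoly F z).coeff 1 = 0
  · refine ⟨-(minpoly F z).coeff 0, ?_⟩
    have := key z hz2
    rw [hb, map_zero, zero_mul, add_zero] at this
    rw [map_neg]
    linear_combination -this
  -- a separable element generating the extension
  exfalso
  have hsep : IsSeparable F z := by
    refine (separable_iff_derivative_ne_zero (minpoly.irreducible (Algebra.IsIntegral.isIntegral (R := F) z))).mpr fun hd => hb ?_
    have := congrArg (fun p => p.coeff 0) hd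
    simpa [coeff_derivative] using this
  have htop : IntermediateField.adjoin F {z} = ⊤ := by
    refine IntermediateField.eq_of_le_of_finrank_eq le_top ?_
    rw [IntermediateField.adjoin.finrank (Algebra.IsIntegral.isIntegral (R := F) z), hz2,
      IntermediateField.finrank_top', h2]
  refine hns ?_
  haveI : Algebra.IsSeparable F (IntermediateField.adjoin F {z}) :=
    (IntermediateField.isSeparable_adjoin_simple_iff_isSeparable F K).mpr hsep
  rw [htop] at this
  exact AlgEquiv.Algebra.isSeparable (IntermediateField.topEquiv (F := F) (E := K))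

variable {L : Type u} [Field L] [CharP L 2] [IsAlgClosed L]

/-- A normal domain whose squares are polynomials in a transcendental element is a polynomial ring. -/
theorem exists_polynomial_equiv {B : Type v} [CommRing B] [IsDomain B] [IsIntegrallyClosed B] [CharP B 2]
    (ψ : L[X] →+* B) (hψ : Function.Injective ψ) (hsq : ∀ b, b ^ 2 ∈ ψ.range) :
    ∃ e : B ≃+* L[X], ∀ c, e (ψ (C c)) = C c := by
  classical
  let s : L →+* L := (frobeniusEquiv L 2).symm.toRingHom
  have hs : ∀ c, s c ^ 2 = c := fun c => frobeniusEquiv_symm_pow_p L 2 c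
  let fr : B →+* ψ.range := (frobenius B 2).codRestrict ψ.range fun b => hsq b
  let ι : ψ.range →+* L[X] := (RingEquiv.ofBijective ψ.rangeRestrict
    ⟨fun a b h => hψ (congrArg Subtype.val h), ψ.rangeRestrict_surjective⟩).symm.toRingHom
  let φ : B →+* L[X] := (mapRingHom s).comp (ι.comp fr)
  have hι : ∀ (x : ψ.range) (p : L[X]), (x : B) = ψ p → ι x = p := fun x p h => by
    have hx : x = ψ.rangeRestrict p := Subtype.ext h
    rw [hx]
    exact (RingEquiv.ofBijective ψ.rangeRestrict _).symm_apply_apply p
  have hφ : ∀ b p, b ^ 2 = ψ p → φ b = p.map s := fun b p h => by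
    show (ι (fr b)).map s = p.map s
    rw [hι (fr b) p h]
  have hφinj : Function.Injective φ := by
    intro a b h
    have h1 := map_injective _ s.injective h
    obtain ⟨p, hp⟩ := hsq a
    obtain ⟨q, hq⟩ := hsq b
    replace h1 : ι (fr a) = ι (fr b) := h1
    rw [hι (fr a) p hp.symm, hι (fr b) q hq.symm] at h1
    exact (frobenius_inj B 2) (show a ^ 2 = b ^ 2 by rw [← hp, ← hq, h1])
  have hψφ : φ.comp ψ = (expand L 2).toRingHom := by
    refine ringHom_ext (fun c => ?_) ?_
    · show φ (ψ (C c)) = expand L 2 (C c)
      rw [hφ _ (C (c ^ 2)) (by rw [← map_pow, ← map_pow]), map_C, expand_C, map_pow, hs]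
    · show φ (ψ X) = expand L 2 X
      rw [hφ _ (X ^ 2) (by rw [← map_pow]), Polynomial.map_pow, map_X, expand_X]
  have hC : ∀ c, φ (ψ (C c)) = C c := fun c => by
    rw [← RingHom.comp_apply, hψφ]
    exact expand_C 2 c
  by_cases hder : ∀ b, derivative (φ b) = 0
  · have hsurj : Function.Surjective ψ := fun b => by
      refine ⟨contract 2 (φ b), hφinj ?_⟩
      rw [← RingHom.comp_apply, hψφ]
      exact expand_contract 2 (hder b) two_ne_zero
    exact ⟨(RingEquiv.ofBijective ψ ⟨hψ, hsurj⟩).symm, fun c =>
      (RingEquiv.ofBijective ψ ⟨hψ, hsurj⟩).symm_apply_apply _⟩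
  push Not at hder
  obtain ⟨b, hb⟩ := hder
  have hdd : ∀ r : L[X], derivative (derivative r) = 0 := fun r => by
    ext n
    rw [coeff_derivative, coeff_derivative, coeff_zero, mul_assoc]
    have h : (((n + 1 + 1) * (n + 1) : ℕ) : L) = 0 := by
      rw [CharP.cast_eq_zero_iff L 2, mul_comm]
      exact (Nat.even_mul_succ_self (n + 1)).two_dvd
    push_cast at h ⊢
    linear_combination (coeff r (n + 1 + 1)) * h
  let r := φ b
  let O := derivative r
  have h1 : φ (ψ (contract 2 O)) = O := by
    rw [← RingHom.comp_apply, hψφ]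
    exact expand_contract 2 (hdd r) two_ne_zero
  have hE : derivative (r - X * O) = 0 := by
    simp only [map_sub, derivative_mul, derivative_X, one_mul, O, hdd, mul_zero, add_zero, sub_self]
  have h2 : φ (ψ (contract 2 (r - X * O))) = r - X * O := by
    rw [← RingHom.comp_apply, hψφ]
    exact expand_contract 2 hE two_ne_zero
  set c := ψ (contract 2 O) with hcdef
  set d := b - ψ (contract 2 (r - X * O)) with hddef
  have hd : φ d = X * O := by rw [hddef, map_sub, h2]; ring
  have hX : φ (ψ X) = X ^ 2 := by
    rw [← RingHom.comp_apply, hψφ]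
    exact expand_X 2
  have hdc : d ^ 2 = ψ X * c ^ 2 := hφinj (by rw [map_pow, hd, map_mul, map_pow, h1, hX]; ring)
  have hdvd : c ∣ d := (IsIntegrallyClosed.pow_dvd_pow_iff two_ne_zero).mp ⟨ψ X, by rw [hdc, mul_comm]⟩
  obtain ⟨q, hq⟩ := hdvd
  have hO : O ≠ 0 := hb
  have hqX : φ q = X := by
    rw [hq, map_mul, h1, mul_comm X O] at hd
    exact mul_left_cancel₀ hO hd
  have hsurj : Function.Surjective φ := by
    intro p
    refine p.induction_on (fun a => ⟨_, hC a⟩) ?_ ?_
    · rintro p q ⟨a, rfl⟩ ⟨b, rfl⟩
      exact ⟨a + b, map_add _ _ _⟩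
    · rintro n a ⟨y, hy⟩
      exact ⟨y * q, by rw [map_mul, hy, hqX, mul_assoc, pow_succ]⟩
  exact ⟨RingEquiv.ofBijective φ ⟨hφinj, hsurj⟩, hC⟩

end Groth.Agent.W7Cover
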